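import Mathlib

/-!
# Simple groups of order 360: Sylow 3-subgroups

(author: helper5)  Basic counting for a finite simple group of order `360`: there are ten Sylow
`3`-subgroups and two distinct ones meet trivially.
-/

set_option autoImplicit false
set_option linter.unusedSectionVars false

namespace Cfsg.Agent.Lib.Helper5.Ord360
section basic
variable {G : Type*} [Group G] [Finite G]

theorem sylow_card_eq {p : ℕ} [hp : Fact p.Prime] (P : Sylow p G) (k m : ℕ)
    (hG : Nat.card G = p ^ k * m) (hm : ¬ p ∣ m) : Nat.card (P : Subgroup G) = p ^ k := by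
  have h1 := P.card_eq_multiplicity
  have hm0 : m ≠ 0 := by
    rintro rfl
    exact hm (dvd_zero _)
  rw [h1, hG, Nat.factorization_mul (pow_ne_zero _ hp.1.ne_zero) hm0, Finsupp.add_apply,
    Nat.Prime.factorization_pow hp.1, Finsupp.single_eq_same,
    Nat.factorization_eq_zero_of_not_dvd hm, add_zero]

variable [IsSimpleGroup G]

/-- a proper subgroup of a finite simple group: the group order divides the factorial of the index -/
theorem card_dvd_factorial_index (K : Subgroup G) (hK : K ≠ ⊤) :
    Nat.card G ∣ (K.index).factorial := by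
  classical
  have : Fintype (G ⧸ K) := Fintype.ofFinite _
  let φ : G →* Equiv.Perm (G ⧸ K) := MulAction.toPermHom G (G ⧸ K)
  have hφinj : Function.Injective φ := by
    rw [← MonoidHom.ker_eq_bot_iff]
    rcases (MonoidHom.normal_ker φ).eq_bot_or_eq_top with h | h
    · exact h
    · exfalso
      apply hK
      rw [eq_top_iff]
      intro g _
      have hg : g ∈ φ.ker := by rw [h]; trivial
      rw [MonoidHom.mem_ker] at hg
      have h2 : g • ((1 : G) : G ⧸ K) = ((1 : G) : G ⧸ K) := by
        have := congrArg (fun σ : Equiv.Perm (G ⧸ K) => σ ((1 : G) : G ⧸ K)) hg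
        simpa [φ] using this
      rw [MulAction.Quotient.smul_mk, QuotientGroup.eq] at h2
      simpa using h2
  have h1 := Subgroup.card_dvd_of_injective φ hφinj
  rwa [Nat.card_eq_fintype_card (α := Equiv.Perm (G ⧸ K)), Fintype.card_perm,
    ← Nat.card_eq_fintype_card, ← Subgroup.index] at h1

theorem six_le_index (hG : Nat.card G = 360) (K : Subgroup G) (hK : K ≠ ⊤) : 6 ≤ K.index := by
  by_contra hlt
  push Not at hlt
  have h1 := card_dvd_factorial_index K hK
  have h2 : (K.index).factorial ∣ (5 : ℕ).factorial := Nat.factorial_dvd_factorial (by omega)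
  have h3 := h1.trans h2
  rw [hG] at h3
  norm_num [Nat.factorial] at h3

theorem card_le_sixty (hG : Nat.card G = 360) (K : Subgroup G) (hK : K ≠ ⊤) : Nat.card K ≤ 60 := by
  have h1 := six_le_index hG K hK
  have h2 := Subgroup.card_mul_index K
  rw [hG] at h2
  nlinarith

theorem not_normal_of_card (hG : Nat.card G = 360) (K : Subgroup G) (hK1 : Nat.card K ≠ 1)
    (hK2 : Nat.card K ≠ 360) : ¬ K.Normal := by
  intro hn
  rcases hn.eq_bot_or_eq_top with h | h
  · rw [h, Subgroup.card_bot] at hK1
    exact hK1 rfl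
  · rw [h, Subgroup.card_top, hG] at hK2
    exact hK2 rfl

end basic


theorem burnside_complement {H : Type*} [Group H] [Finite H] {p : ℕ} [Fact p.Prime] (P : Sylow p H)
    (hcomm : ∀ a ∈ (P : Subgroup H), ∀ b ∈ (P : Subgroup H), a * b = b * a)
    (hN : Nat.card (Subgroup.normalizer ((P : Subgroup H) : Set H)) = Nat.card (P : Subgroup H)) :
    ∃ K : Subgroup H, K.Normal ∧ Nat.card K * Nat.card (P : Subgroup H) = Nat.card H := by
  have hNP : Subgroup.normalizer ((P : Subgroup H) : Set H) = P :=
    (Subgroup.eq_of_le_of_card_ge Subgroup.le_normalizer hN.le).symm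
  have hP : Subgroup.normalizer ((P : Subgroup H) : Set H) ≤ Subgroup.centralizer (P : Set H) := by
    rw [hNP]
    intro a ha b hb
    exact hcomm b hb a ha
  refine ⟨(MonoidHom.transferSylow P hP).ker, inferInstance, ?_⟩
  exact (MonoidHom.ker_transferSylow_isComplement' P hP).card_mul_card

theorem comm_of_card_nine {H : Type*} [Group H] (K : Subgroup H) (hK : Nat.card K = 9) :
    ∀ a ∈ K, ∀ b ∈ K, a * b = b * a := by
  have : Fact (Nat.Prime 3) := ⟨by norm_num⟩
  have h1 : Nat.card K = 3 ^ 2 := by rw [hK]; norm_num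
  have h2 := (IsPGroup.isMulCommutative_of_card_eq_prime_sq h1).is_comm.comm
  intro a ha b hb
  exact congrArg Subtype.val (h2 ⟨a, ha⟩ ⟨b, hb⟩)

section main
variable {G : Type*} [Group G] [Finite G] [IsSimpleGroup G]

theorem card_sylow_three (hG : Nat.card G = 360) : Nat.card (Sylow 3 G) = 10 := by
  have : Fact (Nat.Prime 3) := ⟨by norm_num⟩
  obtain ⟨P⟩ : Nonempty (Sylow 3 G) := inferInstance
  have hP : Nat.card (P : Subgroup G) = 9 := by
    have := sylow_card_eq P 2 40 (by rw [hG]; norm_num) (by norm_num)
    rw [this]; norm_num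
  have hidx : (P : Subgroup G).index = 40 := by
    have h1 := Subgroup.card_mul_index (P : Subgroup G)
    rw [hP, hG] at h1
    omega
  have h1 : Nat.card (Sylow 3 G) ∣ 40 := hidx ▸ P.card_dvd_index
  have h2 : Nat.card (Sylow 3 G) % 3 = 1 := by
    have := card_sylow_modEq_one 3 G
    rw [Nat.ModEq] at this
    rw [this]
  have h3 : Nat.card (Sylow 3 G) ≤ 40 := Nat.le_of_dvd (by norm_num) h1
  have hnorm : Nat.card (Sylow 3 G) = (Subgroup.normalizer ((P : Subgroup G) : Set G)).index :=
    P.card_eq_index_normalizer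
  have hPnn : ¬ (P : Subgroup G).Normal := not_normal_of_card hG _ (by rw [hP]; norm_num)
    (by rw [hP]; norm_num)
  have hNtop : Subgroup.normalizer ((P : Subgroup G) : Set G) ≠ ⊤ := by
    intro h
    exact hPnn (Subgroup.normalizer_eq_top_iff.1 h)
  have h6 := six_le_index hG _ hNtop
  rw [← hnorm] at h6
  generalize hn : Nat.card (Sylow 3 G) = n at *
  interval_cases n <;> try omega
  -- `n = 40`
  exfalso
  have hNcard : Nat.card (Subgroup.normalizer ((P : Subgroup G) : Set G)) = 9 := by
    have h4 := Subgroup.card_mul_index (Subgroup.normalizer ((P : Subgroup G) : Set G))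
    rw [← hnorm, hG] at h4
    omega
  obtain ⟨K, hKn, hKc⟩ := burnside_complement P (comm_of_card_nine _ hP) (by rw [hNcard, hP])
  rw [hP, hG] at hKc
  exact not_normal_of_card hG K (by omega) (by omega) hKn


theorem card_subgroupOf_of_le {H : Type*} [Group H] {A B : Subgroup H} (h : A ≤ B) :
    Nat.card (A.subgroupOf B) = Nat.card A :=
  Nat.card_congr (Subgroup.subgroupOfEquivOfLe h).toEquiv

set_option maxHeartbeats 800000 in
theorem sylow_three_ti (hG : Nat.card G = 360) (P Q : Sylow 3 G) (hPQ : P ≠ Q) :
    (P : Subgroup G) ⊓ (Q : Subgroup G) = ⊥ := by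
  have : Fact (Nat.Prime 3) := ⟨by norm_num⟩
  have : Fact (Nat.Prime 2) := ⟨by norm_num⟩
  have hcardS : ∀ R : Sylow 3 G, Nat.card (R : Subgroup G) = 9 := fun R => by
    have := sylow_card_eq R 2 40 (by rw [hG]; norm_num) (by norm_num)
    rw [this]; norm_num
  rcases Subgroup.bot_or_exists_ne_one ((P : Subgroup G) ⊓ (Q : Subgroup G)) with h | ⟨d, hd, hd1⟩
  · exact h
  exfalso
  set C : Subgroup G := Subgroup.centralizer ({d} : Set G) with hC
  have hRC : ∀ R : Sylow 3 G, d ∈ (R : Subgroup G) → (R : Subgroup G) ≤ C := by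
    intro R hdR x hx
    rw [hC, Subgroup.mem_centralizer_singleton_iff]
    exact comm_of_card_nine _ (hcardS R) x hx d hdR
  have hPC := hRC P hd.1
  have hQC := hRC Q hd.2
  have hPnn : ¬ (P : Subgroup G).Normal := not_normal_of_card hG _ (by rw [hcardS P]; norm_num)
    (by rw [hcardS P]; norm_num)
  have hCtop : C ≠ ⊤ := by
    intro h
    have hdc : d ∈ Subgroup.center G := by
      rw [Subgroup.mem_center_iff]
      intro g
      have hg : g ∈ C := by rw [h]; trivial
      rw [hC, Subgroup.mem_centralizer_singleton_iff] at hg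
      exact hg
    rcases (inferInstance : (Subgroup.center G).Normal).eq_bot_or_eq_top with h1 | h1
    · rw [h1, Subgroup.mem_bot] at hdc
      exact hd1 hdc
    · apply hPnn
      constructor
      intro n hn g
      have hgc : g ∈ Subgroup.center G := by rw [h1]; trivial
      rw [Subgroup.mem_center_iff] at hgc
      have : g * n * g⁻¹ = n := by rw [← hgc n, mul_inv_cancel_right]
      rw [this]
      exact hn
  have hC60 := card_le_sixty hG C hCtop
  have h9 : 9 ∣ Nat.card C := hcardS P ▸ Subgroup.card_dvd_of_le hPC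
  have hC360 : Nat.card C ∣ 360 := hG ▸ Subgroup.card_subgroup_dvd_card C
  -- Sylow subgroups of `C`
  have hne' : P.subtype hPC ≠ Q.subtype hQC := fun h => hPQ (Sylow.subtype_injective h)
  have hP'card : Nat.card ((P.subtype hPC : Sylow 3 C) : Subgroup C) = 9 := by
    rw [Sylow.coe_subtype, card_subgroupOf_of_le hPC, hcardS P]
  have hidx := Subgroup.card_mul_index ((P.subtype hPC : Sylow 3 C) : Subgroup C)
  rw [hP'card] at hidx
  have hn1 : Nat.card (Sylow 3 C) ∣ ((P.subtype hPC : Sylow 3 C) : Subgroup C).index :=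
    (P.subtype hPC).card_dvd_index
  have hn2 : Nat.card (Sylow 3 C) % 3 = 1 := by
    have := card_sylow_modEq_one 3 C
    rw [Nat.ModEq] at this
    rw [this]
  have hn3 : Nat.card (Sylow 3 C) ≠ 1 := by
    intro h
    have : Subsingleton (Sylow 3 C) := (Nat.card_eq_one_iff_unique.1 h).1
    exact hne' (Subsingleton.elim _ _)
  have hnorm : Nat.card (Sylow 3 C) =
      (Subgroup.normalizer (((P.subtype hPC : Sylow 3 C) : Subgroup C) : Set C)).index :=
    (P.subtype hPC).card_eq_index_normalizer
  have hNc := Subgroup.card_mul_index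
    (Subgroup.normalizer (((P.subtype hPC : Sylow 3 C) : Subgroup C) : Set C))
  rw [← hnorm] at hNc
  -- arithmetic
  have harith : Nat.card C = 36 ∧ Nat.card (Sylow 3 C) = 4 := by
    generalize Nat.card C = c at *
    generalize Nat.card (Sylow 3 C) = n at *
    generalize ((P.subtype hPC : Sylow 3 C) : Subgroup C).index = k at *
    obtain ⟨j, rfl⟩ := h9
    have hj : j ≤ 6 := by omega
    have hk : k = j := by omega
    subst hk
    have hnk : n ≤ k := Nat.le_of_dvd (by
      rcases Nat.eq_zero_or_pos k with h | h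
      · subst h
        simp at hC360
      · exact h) hn1
    interval_cases k
    · simp at hC360
    · interval_cases n <;> omega
    · interval_cases n <;> omega
    · norm_num at hC360
    · interval_cases n <;> omega
    · interval_cases n <;> omega
    · norm_num at hC360
  obtain ⟨hc36, hn4⟩ := harith
  rw [hn4, hc36] at hNc
  have hNcard : Nat.card (Subgroup.normalizer (((P.subtype hPC : Sylow 3 C) : Subgroup C) : Set C))
      = 9 := by omega
  obtain ⟨V', hV'n, hV'c⟩ := burnside_complement (P.subtype hPC)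
    (comm_of_card_nine _ hP'card) (by rw [hNcard, hP'card])
  rw [hP'card, hc36] at hV'c
  have hV'4 : Nat.card V' = 4 := by omega
  set V : Subgroup G := V'.map C.subtype with hV
  have hV4 : Nat.card V = 4 := by
    rw [hV, Subgroup.card_map_of_injective C.subtype_injective, hV'4]
  have hCV : C ≤ Subgroup.normalizer (V : Set G) := by
    have h1 := Subgroup.le_normalizer_map (H := V') C.subtype
    rw [Subgroup.normalizer_eq_top_iff.2 hV'n, ← MonoidHom.range_eq_map, Subgroup.range_subtype] at h1
    exact h1
  have hV2 : IsPGroup 2 V := IsPGroup.of_card (n := 2) (by rw [hV4]; norm_num)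
  obtain ⟨S, hVS⟩ := hV2.exists_le_sylow
  have hS8 : Nat.card (S : Subgroup G) = 8 := by
    have := sylow_card_eq S 3 45 (by rw [hG]; norm_num) (by norm_num)
    rw [this]; norm_num
  have hidx2 : (V.subgroupOf (S : Subgroup G)).index = 2 := by
    have h1 := Subgroup.card_mul_index (V.subgroupOf (S : Subgroup G))
    rw [card_subgroupOf_of_le hVS, hV4, hS8] at h1
    omega
  have hnormal : (V.subgroupOf (S : Subgroup G)).Normal := Subgroup.normal_of_index_eq_two hidx2
  have hSV : (S : Subgroup G) ≤ Subgroup.normalizer (V : Set G) :=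
    Subgroup.le_normalizer_of_normal_subgroupOf hVS
  have hNtop : Subgroup.normalizer (V : Set G) ≠ ⊤ := by
    intro h
    exact not_normal_of_card hG V (by rw [hV4]; norm_num) (by rw [hV4]; norm_num)
      (Subgroup.normalizer_eq_top_iff.1 h)
  have hN60 := card_le_sixty hG _ hNtop
  have hd1 : 36 ∣ Nat.card (Subgroup.normalizer (V : Set G)) := hc36 ▸ Subgroup.card_dvd_of_le hCV
  have hd2 : 8 ∣ Nat.card (Subgroup.normalizer (V : Set G)) := hS8 ▸ Subgroup.card_dvd_of_le hSV
  have hpos : 0 < Nat.card (Subgroup.normalizer (V : Set G)) := Nat.card_pos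
  omega

end main

end Cfsg.Agent.Lib.Helper5.Ord360
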