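import Cfsg.Prelude.Def_LieExceptional
import Mathlib

/-!
# Zassenhaus groups from a regular normal subgroup of a point stabiliser

(author: helper5)  A finite simple group acting transitively on `q + 1` points such that a subgroup of
order `q` of a point stabiliser is semiregular on the remaining points, and in which three-point
stabilisers are trivial, is a Zassenhaus group.  Also: parity of involutions in simple groups.
-/

set_option autoImplicit false
open Cfsg

namespace Cfsg.Agent.Lib.Helper5.Ord360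

open Equiv
/-- an even involution moves a positive multiple of four points -/
theorem invol_fixed_card {Ω : Type*} [Fintype Ω] [DecidableEq Ω] (σ : Perm Ω) (h2 : σ * σ = 1)
    (h1 : σ ≠ 1) (hs : Perm.sign σ = 1) :
    ∃ m : ℕ, 0 < m ∧ Fintype.card Ω = Fintype.card (Function.fixedPoints σ) + 4 * m := by
  have hord : orderOf σ = 2 := orderOf_eq_prime (by rw [pow_two]; exact h2) h1
  obtain ⟨n, hn⟩ := Perm.cycleType_prime_order (σ := σ) (by rw [hord]; exact Nat.prime_two)
  rw [hord] at hn
  have hsum : σ.cycleType.sum = 2 * (n + 1) := by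
    rw [hn, Multiset.sum_replicate, smul_eq_mul, mul_comm]
  have hcard : Multiset.card σ.cycleType = n + 1 := by rw [hn, Multiset.card_replicate]
  have hsign := Perm.sign_of_cycleType σ
  rw [hs, hsum, hcard] at hsign
  have hev : Even (2 * (n + 1) + (n + 1)) :=
    (neg_one_pow_eq_one_iff_even (R := ℤˣ) (by decide)).1 hsign.symm
  have hev' : Even (n + 1) := by
    rcases hev with ⟨j, hj⟩
    exact ⟨j - (n + 1), by omega⟩
  obtain ⟨m, hm⟩ := hev'
  refine ⟨m, by omega, ?_⟩
  have h3 := Perm.card_fixedPoints σ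
  have h4 := Perm.sum_cycleType_le σ
  rw [hsum] at h3 h4
  omega

/-- in a finite simple group with more than two elements every element acts as an even permutation -/
theorem sign_eq_one_of_simple {G Ω : Type*} [Group G] [Finite G] [IsSimpleGroup G] [MulAction G Ω]
    [Fintype Ω] [DecidableEq Ω] (hG : 2 < Nat.card G) (g : G) :
    Perm.sign (MulAction.toPerm g : Perm Ω) = 1 := by
  let ψ : G →* ℤˣ := Perm.sign.comp (MulAction.toPermHom G Ω)
  rcases (MonoidHom.normal_ker ψ).eq_bot_or_eq_top with h | h
  · exfalso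
    have hinj : Function.Injective ψ := (MonoidHom.ker_eq_bot_iff ψ).1 h
    have h1 := Nat.card_le_card_of_injective ψ hinj
    have h2 : Nat.card ℤˣ = 2 := by
      rw [Nat.card_eq_fintype_card]; rfl
    omega
  · have hg : g ∈ ψ.ker := by rw [h]; trivial
    exact hg

/-- a simple group acting nontrivially acts faithfully -/
theorem faithful_of_simple {G Ω : Type*} [Group G] [IsSimpleGroup G] [MulAction G Ω]
    (g₀ : G) (c₀ : Ω) (h₀ : g₀ • c₀ ≠ c₀) : FaithfulSMul G Ω := by
  have hker : (MulAction.toPermHom G Ω).ker = ⊥ := by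
    rcases (MulAction.toPermHom G Ω).normal_ker.eq_bot_or_eq_top with h1 | h1
    · exact h1
    · exfalso
      have : g₀ ∈ (MulAction.toPermHom G Ω).ker := by rw [h1]; exact Subgroup.mem_top _
      rw [MonoidHom.mem_ker] at this
      apply h₀
      have h2 := congrArg (fun σ : Equiv.Perm Ω => σ c₀) this
      simpa using h2
  constructor
  intro g g' hgg
  have h1 : g'⁻¹ * g ∈ (MulAction.toPermHom G Ω).ker := by
    rw [MonoidHom.mem_ker]
    ext c
    simp only [MulAction.toPermHom_apply, MulAction.toPerm_apply, Equiv.Perm.coe_one, id_eq]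
    rw [mul_smul, hgg c, inv_smul_smul]
  rw [hker, Subgroup.mem_bot] at h1
  exact (inv_mul_eq_one.1 h1).symm

/-- a semiregular subgroup of the right order is transitive off the fixed point -/
theorem trans_of_semiregular {G Ω : Type*} [Group G] [Finite G] [MulAction G Ω] [Fintype Ω]
    (q : ℕ) (hΩ : Fintype.card Ω = q + 1) (a : Ω)
    (P : Subgroup G) (hPcard : Nat.card P = q) (hPa : ∀ k ∈ P, k • a = a)
    (hsemi : ∀ k ∈ P, ∀ c : Ω, c ≠ a → k • c = c → k = 1) :
    ∀ c c' : Ω, c ≠ a → c' ≠ a → ∃ k ∈ P, k • c = c' := by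
  classical
  have : Fintype P := Fintype.ofFinite P
  intro c c' hc hc'
  have hinj : Function.Injective (fun k : P => (k : G) • c) := by
    intro k k' hkk
    have h1 : ((k' : G)⁻¹ * k) • c = c := by
      rw [mul_smul]
      have : (k : G) • c = (k' : G) • c := hkk
      rw [this, inv_smul_smul]
    have h2 := hsemi _ (P.mul_mem (P.inv_mem k'.2) k.2) c hc h1
    exact Subtype.ext (inv_mul_eq_one.1 h2).symm
  have himg : (Finset.univ : Finset P).image (fun k : P => (k : G) • c) =
      (Finset.univ : Finset Ω).erase a := by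
    apply Finset.eq_of_subset_of_card_le
    · intro x hx
      obtain ⟨k, -, rfl⟩ := Finset.mem_image.1 hx
      rw [Finset.mem_erase]
      refine ⟨?_, Finset.mem_univ _⟩
      intro h'
      have : (k : G) • c = (k : G) • a := by rw [h', hPa _ k.2]
      exact hc (MulAction.injective _ this)
    · rw [Finset.card_image_of_injective _ hinj, Finset.card_univ,
        Finset.card_erase_of_mem (Finset.mem_univ a), Finset.card_univ, hΩ,
        ← Nat.card_eq_fintype_card, hPcard]
      omega
  have hc'mem : c' ∈ (Finset.univ : Finset Ω).erase a :=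
    Finset.mem_erase.2 ⟨hc', Finset.mem_univ _⟩
  rw [← himg] at hc'mem
  obtain ⟨k, -, hk⟩ := Finset.mem_image.1 hc'mem
  exact ⟨k, k.2, hk⟩

set_option maxHeartbeats 1600000 in
theorem zassenhaus_of_regular {G Ω : Type*} [Group G] [Finite G] [MulAction G Ω] [Fintype Ω]
    [IsSimpleGroup G] [MulAction.IsPretransitive G Ω] (q d : ℕ) (hq2 : 2 ≤ q) (hd : 2 ≤ d)
    (hΩ : Fintype.card Ω = q + 1) (hG : Nat.card G = (q + 1) * (q * d)) (a : Ω)
    (P : Subgroup G) (hPcard : Nat.card P = q) (hPa : ∀ k ∈ P, k • a = a)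
    (hsemi : ∀ k ∈ P, ∀ c : Ω, c ≠ a → k • c = c → k = 1)
    (h3a : ∀ g : G, g • a = a → ∀ c c' : Ω, c ≠ a → c' ≠ a → c ≠ c' → g • c = c → g • c' = c' →
      g = 1) :
    Cfsg.IsZassenhausGroup G Ω := by
  classical
  have : Fintype P := Fintype.ofFinite P
  -- a second point
  obtain ⟨b, hba⟩ : ∃ b : Ω, b ≠ a := by
    have h1 : 1 < Fintype.card Ω := by omega
    have : Nontrivial Ω := Fintype.one_lt_card_iff_nontrivial.1 h1
    exact exists_ne a
  have htrans := trans_of_semiregular q hΩ a P hPcard hPa hsemi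
  -- a nonidentity element of `P`
  obtain ⟨k₁, hk₁, hk₁1⟩ : ∃ k₁ ∈ P, k₁ ≠ 1 := by
    rcases Subgroup.bot_or_exists_ne_one P with h | h
    · rw [h, Subgroup.card_bot] at hPcard
      omega
    · exact h
  have hk₁b : k₁ • b ≠ b := fun h => hk₁1 (hsemi k₁ hk₁ b hba h)
  have hfaith : FaithfulSMul G Ω := faithful_of_simple k₁ b hk₁b
  have hmove : ∀ g : G, g • a = a → ∀ c : Ω, c ≠ a → g • c ≠ a := by
    intro g hg c hc h'
    have : g • c = g • a := by rw [h', hg]
    exact hc (MulAction.injective _ this)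
  -- two-transitivity
  have h2t : ∀ {x y x' y' : Ω}, x ≠ y → x' ≠ y' → ∃ g : G, g • x = x' ∧ g • y = y' := by
    intro x y x' y' hxy hxy'
    obtain ⟨g₁, hg₁⟩ := MulAction.exists_smul_eq G x a
    obtain ⟨g₂, hg₂⟩ := MulAction.exists_smul_eq G x' a
    have h1 : g₁ • y ≠ a := by
      intro h'
      rw [← hg₁] at h'
      exact hxy (MulAction.injective _ h').symm
    have h2 : g₂ • y' ≠ a := by
      intro h'
      rw [← hg₂] at h'
      exact hxy' (MulAction.injective _ h').symm
    obtain ⟨k, hk, hkk⟩ := htrans _ _ h1 h2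
    refine ⟨g₂⁻¹ * k * g₁, ?_, ?_⟩
    · rw [mul_smul, mul_smul, hg₁, hPa k hk, inv_smul_eq_iff, hg₂]
    · rw [mul_smul, mul_smul, hkk, inv_smul_smul]
  have h3 : ∀ g : G, ∀ x y z : Ω, x ≠ y → y ≠ z → x ≠ z → g • x = x → g • y = y → g • z = z →
      g = 1 := by
    intro g x y z hxy hyz hxz hgx hgy hgz
    obtain ⟨g₁, hg₁⟩ := MulAction.exists_smul_eq G x a
    have h1 : g₁ * g * g₁⁻¹ = 1 := by
      apply h3a (g₁ * g * g₁⁻¹) ?_ (g₁ • y) (g₁ • z) ?_ ?_ ?_ ?_ ?_
      · rw [mul_smul, mul_smul, ← hg₁, inv_smul_smul, hgx]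
      · intro h'
        rw [← hg₁] at h'
        exact hxy (MulAction.injective _ h').symm
      · intro h'
        rw [← hg₁] at h'
        exact hxz (MulAction.injective _ h').symm
      · intro h'
        exact hyz (MulAction.injective _ h')
      · rw [mul_smul, mul_smul, inv_smul_smul, hgy]
      · rw [mul_smul, mul_smul, inv_smul_smul, hgz]
    calc g = g₁⁻¹ * (g₁ * g * g₁⁻¹) * g₁ := by group
      _ = 1 := by rw [h1]; group
  -- a nonidentity element fixing two points
  have hGa : Nat.card (MulAction.stabilizer G a) = q * d := by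
    have h1 := MulAction.index_stabilizer_of_transitive G a
    have h2 := Subgroup.card_mul_index (MulAction.stabilizer G a)
    rw [h1, Nat.card_eq_fintype_card (α := Ω), hΩ, hG] at h2
    have h4 : (q + 1) * Nat.card (MulAction.stabilizer G a) = (q + 1) * (q * d) := by
      rw [← h2]
      ring
    exact Nat.eq_of_mul_eq_mul_left (by omega) h4
  have hfix2 : ∃ g : G, g ≠ 1 ∧ ∃ x y : Ω, x ≠ y ∧ g • x = x ∧ g • y = y := by
    by_contra hcon
    push Not at hcon
    have : Fintype (MulAction.stabilizer G a) := Fintype.ofFinite _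
    have hinj : Function.Injective (fun g : MulAction.stabilizer G a => (g : G) • b) := by
      intro g g' hgg
      have hgg' : (g : G) • b = (g' : G) • b := hgg
      by_contra hne
      have h1 : (g' : G)⁻¹ * g ≠ 1 := fun h' => hne (Subtype.ext (inv_mul_eq_one.1 h').symm)
      have h2 := hcon _ h1 a b hba.symm (by
        rw [mul_smul, g.2, inv_smul_eq_iff, g'.2])
      apply h2
      rw [mul_smul, hgg', inv_smul_smul]
    have hle : Fintype.card (MulAction.stabilizer G a) ≤ ((Finset.univ : Finset Ω).erase a).card := by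
      rw [← Finset.card_univ, ← Finset.card_image_of_injective _ hinj]
      apply Finset.card_le_card
      intro x hx
      obtain ⟨g, -, rfl⟩ := Finset.mem_image.1 hx
      rw [Finset.mem_erase]
      exact ⟨hmove g g.2 b hba, Finset.mem_univ _⟩
    rw [Finset.card_erase_of_mem (Finset.mem_univ a), Finset.card_univ, hΩ,
      ← Nat.card_eq_fintype_card, hGa] at hle
    have : q * 2 ≤ q * d := Nat.mul_le_mul_left q hd
    omega
  refine ⟨hfaith, MulAction.is_two_pretransitive_iff.2 h2t, h3, hfix2, ?_⟩
  intro N hN hNt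
  refine ⟨a, ?_⟩
  rcases hN.eq_bot_or_eq_top with h1 | h1
  · exfalso
    subst h1
    obtain ⟨n, hn⟩ := hNt.exists_smul_eq a b
    have : (n : G) = 1 := Subgroup.mem_bot.1 n.2
    have hn' : (n : G) • a = b := hn
    rw [this, one_smul] at hn'
    exact hba hn'.symm
  · intro hbot
    have hk₁N : k₁ ∈ N := by rw [h1]; exact Subgroup.mem_top _
    have hmem : (⟨k₁, hk₁N⟩ : N) ∈ MulAction.stabilizer N a := by
      rw [MulAction.mem_stabilizer_iff]
      exact hPa k₁ hk₁
    rw [hbot, Subgroup.mem_bot] at hmem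
    exact hk₁1 (congrArg Subtype.val hmem)

end Cfsg.Agent.Lib.Helper5.Ord360
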