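import Cfsg.Agent.Lib.Helper5.Ord360.Sylow3
import Cfsg.Agent.Lib.Helper5.Ord360.Regular
import Cfsg.Agent.Lib.Helper5.Zass3.OddClasses
import Cfsg.Agent.S0742
import Cfsg.Agent.S0254
import Mathlib

/-!
# A simple group of order 360 is the alternating group of degree six

(author: helper5)  The action on the ten Sylow `3`-subgroups is a Zassenhaus action with two-point
stabilisers of order four, so the group is `PSL₂(9)`, which is the alternating group of degree `6`.
-/

set_option autoImplicit false
open Cfsg

namespace Cfsg.Agent.Lib.Helper5.Ord360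

open Cfsg.Agent.Lib.Helper5.Zass Cfsg.Agent.Lib.Helper5.Zass3

set_option maxHeartbeats 1600000 in
theorem iso_alt_six {G : Type*} [Group G] [Finite G] [IsSimpleGroup G] (hG : Nat.card G = 360) :
    Nonempty (G ≃* alternatingGroup (Fin 6)) := by
  classical
  have : Fact (Nat.Prime 3) := ⟨by norm_num⟩
  have : Fintype (Sylow 3 G) := Fintype.ofFinite _
  have hn := card_sylow_three hG
  have hΩ : Fintype.card (Sylow 3 G) = 9 + 1 := by rw [← Nat.card_eq_fintype_card, hn]
  obtain ⟨P⟩ : Nonempty (Sylow 3 G) := inferInstance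
  have hcardS : ∀ R : Sylow 3 G, Nat.card (R : Subgroup G) = 9 := fun R => by
    have := sylow_card_eq R 2 40 (by rw [hG]; norm_num) (by norm_num)
    rw [this]; norm_num
  have hPa : ∀ k ∈ (P : Subgroup G), k • P = P := by
    intro k hk
    rw [Sylow.smul_eq_iff_mem_normalizer]
    exact Subgroup.le_normalizer hk
  have hPn : ∀ g : G, g • P = P → ∀ k ∈ (P : Subgroup G), g * k * g⁻¹ ∈ (P : Subgroup G) := by
    intro g hg k hk
    rw [Sylow.smul_eq_iff_mem_normalizer] at hg
    exact ((Subgroup.mem_set_normalizer_iff.1 hg) k).1 hk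
  have hsemi : ∀ k ∈ (P : Subgroup G), ∀ Q : Sylow 3 G, Q ≠ P → k • Q = Q → k = 1 := by
    intro k hk Q hQ hkQ
    rw [Sylow.smul_eq_iff_mem_normalizer] at hkQ
    have h1 : k ∈ (P : Subgroup G) ⊓ (Q : Subgroup G) :=
      (IsPGroup.inf_normalizer_sylow P.2 Q).le ⟨hk, hkQ⟩
    rw [sylow_three_ti hG P Q hQ.symm, Subgroup.mem_bot] at h1
    exact h1
  have htrans := trans_of_semiregular 9 hΩ P (P : Subgroup G) (hcardS P) hPa hsemi
  have hNcard : Nat.card (MulAction.stabilizer G P) = 36 := by
    have h1 := MulAction.index_stabilizer_of_transitive G P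
    have h2 := Subgroup.card_mul_index (MulAction.stabilizer G P)
    rw [h1, hn, hG] at h2
    omega
  have hsign := fun g : G => sign_eq_one_of_simple (Ω := Sylow 3 G) (by rw [hG]; norm_num) g
  -- faithfulness
  obtain ⟨k₁, hk₁, hk₁1⟩ : ∃ k₁ ∈ (P : Subgroup G), k₁ ≠ 1 := by
    rcases Subgroup.bot_or_exists_ne_one (P : Subgroup G) with h | h
    · have := hcardS P
      rw [h, Subgroup.card_bot] at this
      omega
    · exact h
  obtain ⟨Q₀, hQ₀⟩ : ∃ b : Sylow 3 G, b ≠ P := by
    have h1 : 1 < Fintype.card (Sylow 3 G) := by omega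
    have : Nontrivial (Sylow 3 G) := Fintype.one_lt_card_iff_nontrivial.1 h1
    exact exists_ne P
  have hfaith : FaithfulSMul G (Sylow 3 G) :=
    faithful_of_simple k₁ Q₀ (fun h => hk₁1 (hsemi k₁ hk₁ Q₀ hQ₀ h))
  -- three-point stabilisers
  have h3a : ∀ g : G, g • P = P → ∀ c c' : Sylow 3 G, c ≠ P → c' ≠ P → c ≠ c' → g • c = c →
      g • c' = c' → g = 1 := by
    intro g hga c c' hc hc' hcc hgc hgc'
    by_contra hg1
    have hn2 : orderOf g ≠ 1 := fun h => hg1 (orderOf_eq_one_iff.1 h)
    set r := (orderOf g).minFac with hr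
    have hrp : r.Prime := Nat.minFac_prime hn2
    have hrd : r ∣ orderOf g := Nat.minFac_dvd _
    set t := g ^ (orderOf g / r) with ht
    have hto : orderOf t = r := orderOf_pow_orderOf_div (orderOf_pos g).ne' hrd
    have htfix : ∀ x : Sylow 3 G, g • x = x → t • x = x := by
      intro x hx
      have : t ∈ MulAction.stabilizer G x :=
        Subgroup.pow_mem _ (MulAction.mem_stabilizer_iff.2 hx) _
      exact MulAction.mem_stabilizer_iff.1 this
    have hta : t ∈ MulAction.stabilizer G P := MulAction.mem_stabilizer_iff.2 (htfix P hga)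
    have hr36 : r ∣ 36 := by
      have := Subgroup.orderOf_dvd_natCard _ hta
      rwa [hto, hNcard] at this
    have hr23 : r = 2 ∨ r = 3 := by
      have h36 : r ∣ 2 ^ 2 * 3 ^ 2 := by norm_num; exact hr36
      rcases (hrp.dvd_mul).1 h36 with h | h
      · left
        exact (Nat.prime_dvd_prime_iff_eq hrp Nat.prime_two).1 (hrp.dvd_of_dvd_pow h)
      · right
        exact (Nat.prime_dvd_prime_iff_eq hrp Nat.prime_three).1 (hrp.dvd_of_dvd_pow h)
    have ht1 : t ≠ 1 := by
      intro h'
      rw [h', orderOf_one] at hto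
      exact hrp.one_lt.ne' hto.symm
    rcases hr23 with h2 | h3
    · -- an involution
      have htt : t * t = 1 := by
        rw [← pow_two, ← h2, ← hto]
        exact pow_orderOf_eq_one t
      obtain ⟨k, hk, hkc⟩ := htrans c c' hc hc'
      have hk1 : k ≠ 1 := by
        rintro rfl
        rw [one_smul] at hkc
        exact hcc hkc
      have htc := htfix c hgc
      have htc' := htfix c' hgc'
      have hcomm : t * k * t⁻¹ = k := by
        have h1 : (k⁻¹ * (t * k * t⁻¹)) • c = c := by
          have hginv : t⁻¹ • c = c := by rw [inv_smul_eq_iff, htc]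
          rw [mul_smul, mul_smul, mul_smul, hginv, hkc, htc', ← hkc, inv_smul_smul]
        have h2 := hsemi _ ((P : Subgroup G).mul_mem ((P : Subgroup G).inv_mem hk)
          (hPn t (htfix P hga) k hk)) c hc h1
        exact (inv_mul_eq_one.1 h2).symm
      have hcomm' : t * k = k * t := by
        calc t * k = (t * k * t⁻¹) * t := by group
          _ = k * t := by rw [hcomm]
      -- the permutation induced by `t`
      set σ : Equiv.Perm (Sylow 3 G) := MulAction.toPerm t with hσ
      have hσ2 : σ * σ = 1 := by
        ext x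
        simp only [hσ, Equiv.Perm.coe_mul, Function.comp_apply, MulAction.toPerm_apply,
          Equiv.Perm.coe_one, id_eq]
        rw [← mul_smul, htt, one_smul]
      have hσ1 : σ ≠ 1 := by
        intro h'
        apply ht1
        apply FaithfulSMul.eq_of_smul_eq_smul (α := Sylow 3 G)
        intro x
        have := congrArg (fun τ : Equiv.Perm (Sylow 3 G) => τ x) h'
        simpa [hσ] using this
      obtain ⟨m, hm0, hm⟩ := invol_fixed_card σ hσ2 hσ1 (hsign t)
      rw [hΩ] at hm
      -- the action of `k` on the fixed points of `t`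
      have hfx : ∀ x : Function.fixedPoints σ, k • (x : Sylow 3 G) ∈ Function.fixedPoints σ := by
        intro x
        have hx : t • (x : Sylow 3 G) = x := x.2
        show t • k • (x : Sylow 3 G) = k • (x : Sylow 3 G)
        rw [← mul_smul, hcomm', mul_smul, hx]
      let f : Function.End (Function.fixedPoints σ) := fun x => ⟨k • (x : Sylow 3 G), hfx x⟩
      have hiter : ∀ (n : ℕ) (x : Function.fixedPoints σ),
          (((f ^ n) x : Function.fixedPoints σ) : Sylow 3 G) = k ^ n • (x : Sylow 3 G) := by
        intro n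
        induction n with
        | zero =>
          intro x
          rw [pow_zero, pow_zero, one_smul]
          rfl
        | succ n ih =>
          intro x
          have h1 : (f ^ (n + 1)) x = (f ^ n) (f x) := by rw [pow_succ]; rfl
          rw [h1, ih, pow_succ, mul_smul]
      have hk9 : k ^ 9 = 1 := by
        have h1 : (⟨k, hk⟩ : (P : Subgroup G)) ^ Nat.card (P : Subgroup G) = 1 := pow_card_eq_one'
        rw [hcardS P] at h1
        exact congrArg Subtype.val h1
      have hf9 : f ^ 3 ^ 2 = 1 := by
        funext x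
        apply Subtype.ext
        rw [hiter]
        have h9 : (3 : ℕ) ^ 2 = 9 := by norm_num
        rw [h9, hk9, one_smul]
        rfl
      have hmod := Equiv.Perm.card_fixedPoints_modEq (p := 3) (n := 2) hf9
      have hPfix : P ∈ Function.fixedPoints σ := htfix P hga
      have hfixf : Fintype.card (Function.fixedPoints f) = 1 := by
        rw [Fintype.card_eq_one_iff]
        refine ⟨⟨⟨P, hPfix⟩, ?_⟩, ?_⟩
        · show f ⟨P, hPfix⟩ = ⟨P, hPfix⟩
          apply Subtype.ext
          exact hPa k hk
        · intro y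
          apply Subtype.ext
          apply Subtype.ext
          show ((y : Function.fixedPoints σ) : Sylow 3 G) = P
          by_contra hy
          have h1 : f (y : Function.fixedPoints σ) = y := y.2
          have h2 : k • ((y : Function.fixedPoints σ) : Sylow 3 G) =
              ((y : Function.fixedPoints σ) : Sylow 3 G) := congrArg Subtype.val h1
          exact hk1 (hsemi k hk _ hy h2)
      rw [hfixf, Nat.ModEq] at hmod
      omega
    · -- an element of order three lies in `P`
      have hz : IsPGroup 3 (Subgroup.zpowers t) :=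
        IsPGroup.of_card (n := 1) (by rw [Nat.card_zpowers, hto, h3]; norm_num)
      have h1 : t ∈ Subgroup.zpowers t ⊓ (P : Subgroup G) :=
        (hz.inf_normalizer_sylow P).le
          ⟨Subgroup.mem_zpowers t, Sylow.smul_eq_iff_mem_normalizer.1 (htfix P hga)⟩
      exact ht1 (hsemi t h1.2 c hc (htfix c hgc))
  have hZ : Cfsg.IsZassenhausGroup G (Sylow 3 G) :=
    zassenhaus_of_regular 9 4 (by norm_num) (by norm_num) hΩ (by rw [hG]) P (P : Subgroup G)
      (hcardS P) hPa hsemi h3a
  have hab : P ≠ Q₀ := hQ₀.symm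
  have hE : Nat.card ↥(MulAction.stabilizer G P ⊓ MulAction.stabilizer G Q₀) = 4 := by
    have h1 := card_group hZ hab
    rw [hΩ, hG] at h1
    omega
  obtain ⟨p, f, K, instK, instKt, hp, hp2, hcardK, hcardΩ, ⟨e⟩⟩ :=
    Cfsg.Agent.S0742.result hZ hab (by rw [hE]; decide) (by rw [hE, hΩ])
  have hK9 : Fintype.card K = 9 := by
    rw [hcardK]
    rw [hΩ] at hcardΩ
    omega
  obtain ⟨e'⟩ := Cfsg.Agent.S0254.result hK9
  exact ⟨e.trans e'⟩

end Cfsg.Agent.Lib.Helper5.Ord360
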