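import Mathlib

/-!
# `SL₂` and `PSL₂` over finite fields of characteristic two

(author: helper5)  Over a field of characteristic two the centre of `SL₂` is trivial, so `SL₂(F)` is
isomorphic to `PSL₂(F')` for any two finite fields `F`, `F'` of characteristic two with the same number of
elements.
-/

set_option autoImplicit false

namespace Cfsg.Agent.Lib.Helper5.Ord360

open Matrix

theorem sl2_equiv_psl2_char_two {F F' : Type*} [Field F] [Fintype F] [Field F'] [Fintype F']
    (h : Fintype.card F = Fintype.card F') (h2 : (2 : F) = 0) :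
    Nonempty (SpecialLinearGroup (Fin 2) F ≃* Matrix.ProjectiveSpecialLinearGroup (Fin 2) F') := by
  classical
  have e : F ≃+* F' := FiniteField.ringEquivOfCardEq (K := F) (K' := F') h
  have h2' : (2 : F') = 0 := by
    have h3 : e (2 : F) = e 0 := congrArg e h2
    rwa [map_ofNat, map_zero] at h3
  let φ : SpecialLinearGroup (Fin 2) F →* SpecialLinearGroup (Fin 2) F' :=
    SpecialLinearGroup.map e.toRingHom
  let ψ : SpecialLinearGroup (Fin 2) F →* Matrix.ProjectiveSpecialLinearGroup (Fin 2) F' :=
    (QuotientGroup.mk' _).comp φ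
  have hφinj : Function.Injective φ := by
    intro A B hAB
    apply Subtype.ext
    ext i j
    have h1 : (φ A : Matrix (Fin 2) (Fin 2) F') i j = (φ B : Matrix (Fin 2) (Fin 2) F') i j := by
      rw [hAB]
    have h3 : e ((A : Matrix (Fin 2) (Fin 2) F) i j) = e ((B : Matrix (Fin 2) (Fin 2) F) i j) := h1
    exact e.injective h3
  have hφsurj : Function.Surjective φ := by
    intro B
    refine ⟨⟨(e.symm.toRingHom.mapMatrix (B : Matrix (Fin 2) (Fin 2) F')), ?_⟩, ?_⟩
    · rw [← RingHom.map_det, B.2, map_one]
    · apply Subtype.ext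
      ext i j
      show e (e.symm ((B : Matrix (Fin 2) (Fin 2) F') i j)) = _
      rw [RingEquiv.apply_symm_apply]
  have hcenter : Subgroup.center (SpecialLinearGroup (Fin 2) F') = ⊥ := by
    rw [eq_bot_iff]
    intro A hA
    rw [Matrix.SpecialLinearGroup.mem_center_iff] at hA
    obtain ⟨r, hr, hrA⟩ := hA
    rw [Subgroup.mem_bot]
    have hr1 : r = 1 := by
      rw [Fintype.card_fin] at hr
      have h3 : (r - 1) * (r + 1) = 0 := by
        have : (r - 1) * (r + 1) = r ^ 2 - 1 := by ring
        rw [this, hr, sub_self]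
      have h4 : r + 1 = r - 1 := by
        have : r + 1 = r - 1 + 2 := by ring
        rw [this, h2', add_zero]
      rw [h4] at h3
      have h5 : r - 1 = 0 := by
        rcases mul_self_eq_zero.1 h3 with h5
        exact h5
      exact sub_eq_zero.1 h5
    apply Subtype.ext
    rw [← hrA, hr1]
    simp
  have hψinj : Function.Injective ψ := by
    rw [← MonoidHom.ker_eq_bot_iff, eq_bot_iff]
    intro A hA
    rw [MonoidHom.mem_ker] at hA
    have h1 : φ A ∈ Subgroup.center (SpecialLinearGroup (Fin 2) F') := by
      have : (QuotientGroup.mk' _) (φ A) = 1 := hA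
      rwa [QuotientGroup.mk'_apply, QuotientGroup.eq_one_iff] at this
    rw [hcenter, Subgroup.mem_bot] at h1
    rw [Subgroup.mem_bot]
    exact hφinj (h1.trans (map_one φ).symm)
  have hψsurj : Function.Surjective ψ := (QuotientGroup.mk'_surjective _).comp hφsurj
  exact ⟨MulEquiv.ofBijective ψ ⟨hψinj, hψsurj⟩⟩

end Cfsg.Agent.Lib.Helper5.Ord360
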